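import Groth.Agent.L03.SurfFib.PushFree
import Groth.Agent.L03.SurfFib.RelCanRank

/-!
# Local freeness of a first higher direct image with constant fibre rank
-/

set_option autoImplicit false
set_option backward.isDefEq.respectTransparency false
set_option linter.style.haveILetI false
set_option linter.unusedSectionVars false
universe u

open CategoryTheory CategoryTheory.Limits AlgebraicGeometry TopologicalSpace

noncomputable section

namespace Groth.L03.SurfLeray

variable {X B : Scheme.{u}} (f : X ⟶ B) [IsProper f] [LocallyOfFinitePresentation f] [Flat f]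
  [IsLocallyNoetherian B] [IsLocallyNoetherian X] [IsReduced B] [JacobsonSpace B]
  [HasInjectiveResolutions X.Modules]

/-- Constant rank on the closed points gives a bundle. -/
theorem locFree_Rpush_one {L : X.Modules} (hL : PicF.IsInvertible L) {r : ℕ}
    (h : ∀ q : B, IsClosed ({q} : Set B) → CohIII.fiberRank f L 1 q = r) :
    FlatMod.IsFinLocFreeOfRank r ((Coh.Rpush f 1).obj L) := by
  haveI : Coh.IsQCoh L := Groth.L21.Extend.isQCoh_of_isInvertible hL
  have hc := Groth.L18.Ample.isCoh_of_isInvertible hL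
  have hfp : CohB1.IsFP L := Groth.L18.LFP.isFP_of_isFinLocFree _ (Groth.L16.Existence.isFinLocFree_of_isInvertible hL)
  have hfl := Groth.Agent.Pic0.isFlatOver_of_isInvertible f hL
  have hopen := fun n => Groth.L17.BC.isOpen_fiberRank_lt f L hfp hfl 1 n
  have hall : ∀ y : B, CohIII.fiberRank f L 1 y = r := by
    intro y
    have h1 : y ∈ {z : B | CohIII.fiberRank f L 1 z < r + 1} := by
      by_contra hy
      obtain ⟨q, hq, hqc⟩ := nonempty_inter_closedPoints (Z := {z : B | CohIII.fiberRank f L 1 z < r + 1}ᶜ)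
        ⟨y, hy⟩ (hopen (r + 1)).isClosed_compl.isLocallyClosed
      rw [mem_closedPoints_iff] at hqc
      exact hq (show CohIII.fiberRank f L 1 q < r + 1 by rw [h q hqc]; exact Nat.lt_succ_self r)
    have h2 : y ∉ {z : B | CohIII.fiberRank f L 1 z < r} := by
      intro hy
      obtain ⟨q, hq, hqc⟩ := nonempty_inter_closedPoints (Z := {z : B | CohIII.fiberRank f L 1 z < r})
        ⟨y, hy⟩ (hopen r).isLocallyClosed
      rw [mem_closedPoints_iff] at hqc
      have hq' : CohIII.fiberRank f L 1 q < r := hq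
      rw [h q hqc] at hq'
      exact lt_irrefl r hq'
    simp only [Set.mem_setOf_eq, not_lt] at h1 h2
    omega
  intro y
  obtain ⟨V, hV, hyV, -⟩ := exists_isAffineOpen_mem_and_subset (x := y) (U := ⊤) trivial
  obtain ⟨m⟩ := Groth.L17.BC.nonempty_local f hV L hc hfl
  haveI : IsNoetherianRing Γ(B, V) := IsLocallyNoetherian.component_noetherian ⟨V, hV⟩
  have hd0 : IsLocallyConstant (CohIII.dRank m.L (((1 : ℕ) : ℤ) - 1 + 1)) := by
    rw [sub_add_cancel, m.dRank_eq f 1]
    refine IsLocallyConstant.of_constant (X := PrimeSpectrum Γ(B, V)) _ fun a b => ?_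
    show CohIII.fiberRank f L 1 (hV.fromSpec a) = CohIII.fiberRank f L 1 (hV.fromSpec b)
    rw [hall, hall]
  have hfree := Groth.L17.BC.Crit.freeC_of_isLocallyConstant m.L (m.finiteFlat f) hd0 (hV.primeIdealOf ⟨y, hyV⟩)
  rw [sub_add_cancel] at hfree
  obtain ⟨U', hyU', ⟨e⟩⟩ := m.exists_free f hyV 1 hfree.1 hfree.2
  rw [hall y] at e
  exact ⟨U', hyU', ⟨e⟩⟩

end Groth.L03.SurfLeray
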