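import Groth.Agent.L03.SurfLeray.TorsionVanish
import Groth.Agent.L03.SurfLeray.R1Free
import Groth.Agent.L13.LerayFive.Lengths

/-!
# Direct images of numerically trivial twists of the canonical module
-/

set_option autoImplicit false
set_option backward.isDefEq.respectTransparency false
set_option linter.style.haveILetI false
set_option linter.unusedSectionVars false
set_option maxHeartbeats 1600000
universe u

open CategoryTheory CategoryTheory.Limits AlgebraicGeometry TopologicalSpace
open Groth.L22 Groth.L22.Inter Groth.L22.Nef Groth.L22.Big Groth.L03.Euler Groth.L03.SurfNum Groth.L03.SurfAdj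
open Groth.L00.Tensor (tensorIso tensorComm tensorUnitLeft tensorUnitRight tensorAssoc)
open Groth.L21.RR (h)

noncomputable section

namespace Groth.L03.SurfLeray

variable (k : Type u) [Field k] [IsAlgClosed k] {X : Scheme.{u}} [X.Over (Spec (CommRingCat.of k))]
  [IsProper (X ↘ Spec (CommRingCat.of k))] [IsIntegral X] [Smooth (X ↘ Spec (CommRingCat.of k))]
  (hd : topologicalKrullDim X = 2)
  {B : Scheme.{u}} [B.Over (Spec (CommRingCat.of k))] [IsProper (B ↘ Spec (CommRingCat.of k))]
  [Smooth (B ↘ Spec (CommRingCat.of k))] [IsIntegral B] (hdB : topologicalKrullDim B = 1)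
  (f : X ⟶ B) [f.IsOver (Spec (CommRingCat.of k))] [Surjective f]

include hdB in
/-- The first cohomology of a module on the surface, from the base. -/
theorem h1_eq [HasInjectiveResolutions X.Modules] {N : X.Modules} (hN : PicF.IsInvertible N) :
    Module.finrank k (Coh.HH X N 1) =
      Module.finrank k (Coh.HH B ((Scheme.Modules.pushforward f).obj N) 1) +
        Module.finrank k (Coh.HH B ((Coh.Rpush f 1).obj N) 0) := by
  haveI := Groth.L21.RR.isNoetherian_of_proper (X := X) k
  haveI := Groth.L21.RR.isNoetherian_of_proper (X := B) k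
  haveI : IsProper (f ≫ (B ↘ Spec (CommRingCat.of k))) := by rw [comp_over]; infer_instance
  haveI : IsProper f := IsProper.of_comp f (B ↘ Spec (CommRingCat.of k))
  haveI := Groth.L17.PushQCoh.additive_push f
  have hc := Groth.L18.Ample.isCoh_of_isInvertible hN
  haveI : Coh.IsQCoh N := hc.1
  have hc0 : Coh.IsCoh ((Scheme.Modules.pushforward f).obj N) :=
    Groth.L16.CohSupport.isCoh_of_iso (((Coh.push f).rightDerivedZeroIsoSelf).app N)
      (Groth.L17.ProperCoh.isCoh_Rpush f N hc 0)
  have hc1 := Groth.L17.ProperCoh.isCoh_Rpush f N hc 1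
  haveI : Coh.IsQCoh ((Scheme.Modules.pushforward f).obj N) := hc0.1
  haveI := Groth.L16.ProperFinite.finite_HH k hc 1
  haveI := Groth.L16.ProperFinite.finite_HH k hc0 1
  haveI := Groth.L16.ProperFinite.finite_HH k hc1 0
  have h2 : Subsingleton (Coh.HH B ((Scheme.Modules.pushforward f).obj N) 2) :=
    Groth.L22.Inter.subsingleton_HH_of_dim (d := 1) (hdB.le.trans (le_of_eq Nat.cast_one.symm)) _ one_lt_two
  have hl := Groth.L13.LerayFive.length_H1_eq (A := k) f (comp_over f (Spec (CommRingCat.of k))) N h2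
  rw [Module.length_eq_finrank, Module.length_eq_finrank, Module.length_eq_finrank] at hl
  exact_mod_cast hl

include hd hdB in
/-- Rank and Euler characteristic of the direct image of a twist of the canonical module. -/
theorem euler_push_twist [HasInjectiveResolutions X.Modules] (hconn : IsIso (ClSub.unitToPush f))
    {p : B} (hp : IsClosed ({p} : Set B))
    {g : ℕ} (hg : Curv2.euler k X (ClSub.quotMod (f.fiberι p).ker) = 1 - (g : ℤ))
    {W : X.Modules} (hW : ExtPow.IsExtPow 2 (Omega.sheaf (X ↘ Spec (CommRingCat.of k))) W)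
    {η η' : X.Modules} (hη : PicF.IsInvertible η) (hη' : PicF.IsInvertible η')
    (e' : CohB1.tensorMod η' η ≅ Coh.structureModule X)
    (hnum : ∀ Z : X.Modules, PicF.IsInvertible Z → ii k η Z = 0)
    {r₀ r₁ : ℕ} (hG : FlatMod.IsFinLocFreeOfRank r₀ ((Scheme.Modules.pushforward f).obj η'))
    (hR : FlatMod.IsFinLocFreeOfRank r₁ ((Coh.Rpush f 1).obj η')) :
    ∃ r, FlatMod.IsFinLocFreeOfRank r ((Scheme.Modules.pushforward f).obj (CohB1.tensorMod W η)) ∧
      (r : ℤ) = (g : ℤ) - 1 + r₀ ∧
      Curv2.euler k B ((Scheme.Modules.pushforward f).obj (CohB1.tensorMod W η)) =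
        Curv2.euler k X (Coh.structureModule X) - Curv2.euler k B ((Scheme.Modules.pushforward f).obj η') := by
  classical
  have hd2 : topologicalKrullDim X = (2 : ℕ) := hd.trans Nat.cast_ofNat.symm
  haveI := Groth.L21.RR.isNoetherian_of_proper (X := X) k
  haveI := Groth.L21.RR.isNoetherian_of_proper (X := B) k
  haveI : IsProper (f ≫ (B ↘ Spec (CommRingCat.of k))) := by rw [comp_over]; infer_instance
  haveI : IsProper f := IsProper.of_comp f (B ↘ Spec (CommRingCat.of k))
  have hreg := reg_of_smooth k (X := X)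
  obtain ⟨hWi, hflip, -, hRR⟩ := canonical k hd hreg hW
  have hWη := Groth.L18.GenLoc.isInvertible_tensor hWi hη
  obtain ⟨r, hr⟩ := Groth.L03.SurfFib.PushFree.exists_rank_push f
    (Groth.L03.SurfFib.Zariski.isIso_app f hconn) (reg_of_smooth k) hdB.le hWη
  change FlatMod.IsFinLocFreeOfRank r ((Scheme.Modules.pushforward f).obj (CohB1.tensorMod W η)) at hr
  set E := (Scheme.Modules.pushforward f).obj (CohB1.tensorMod W η) with hEdef
  set G := (Scheme.Modules.pushforward f).obj η' with hGdef
  obtain ⟨N₀, hN₀⟩ := exists_h0_twist_zero k hdB hG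
  obtain ⟨N₁, hN₁⟩ := exists_h0_twist_zero k hdB hR
  obtain ⟨N₂, hN₂⟩ := exists_h1_twist_zero k hdB hr
  obtain ⟨hIF, hIp, -, ⟨α⟩⟩ := Groth.L03.SurfNum.fibre_ideal k hdB f hp
  obtain ⟨A, hA, hdegA, ⟨eA⟩⟩ := exists_point_inverse k hdB hp
  set Ip := ClSub.idealMod (B.fromSpecResidueField p).ker
  have hdegI : Curv2.deg k B Ip 1 = -1 := (Groth.L03.SurfFib.deg_point (k := k) hdB hp).2
  have hII : ii k (ClSub.idealMod (f.fiberι p).ker) (ClSub.idealMod (f.fiberι p).ker) = 0 := by
    obtain ⟨T, n, ⟨y, hy⟩, hT, -, -, hv, -⟩ := Groth.L03.SurfFib.Zariski.fibre_config k hd hdB f hconn hp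
    haveI := isIntegral_pt y
    exact (vertical_facts k f hd hdB hp (pt y)
      (Groth.L03.BlowPt.Ramanujam.dim_support_pt k hd2 hreg (hT y hy)) (c := p) fun x hx =>
        hv y hy x ((Groth.L18.support_vanishingIdeal _).le hx)).2.1
  have hIW : ii k (ClSub.idealMod (f.fiberι p).ker) W = 2 * (1 - (g : ℚ)) := by
    have h1 := adj_num k hd hreg hW _ hIF
    rw [hg, hII, sub_zero] at h1
    rw [← h1]
    push_cast
    ring
  have key : ∀ n : ℕ, N₂ < (n : ℤ) → -(n : ℤ) < N₀ → -(n : ℤ) < N₁ →
      Curv2.euler k B E + (r : ℤ) * n = Curv2.euler k X (Coh.structureModule X) + (n : ℤ) * ((g : ℤ) - 1) +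
        ((r₀ : ℤ) * n - Curv2.euler k B G) := by
    intro n hn2 hn0 hn1
    set Q := CohB1.tensorPow A n
    set Q' := CohB1.tensorPow Ip n
    have hQ : PicF.IsInvertible Q := Groth.L18.Ample.isInvertible_tensorPow hA n
    have hQ' : PicF.IsInvertible Q' := Groth.L18.Ample.isInvertible_tensorPow hIp n
    have hdQ : Curv2.deg k B Q 1 = n := by
      rw [Groth.L21.Duality.deg_tensorPow (k := k) hdB hA n, hdegA]; simp
    have hdQ' : Curv2.deg k B Q' 1 = -(n : ℤ) := by
      rw [Groth.L21.Duality.deg_tensorPow (k := k) hdB hIp n, hdegI]; simp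
    set P := (Scheme.Modules.pullback f).obj Q
    set P' := (Scheme.Modules.pullback f).obj Q'
    have hP : PicF.IsInvertible P := Groth.L18.Ample.isInvertible_pullback f hQ
    have hP' : PicF.IsInvertible P' := Groth.L18.Ample.isInvertible_pullback f hQ'
    obtain ⟨eQ⟩ := nonempty_pow_inverse eA n
    set D := CohB1.tensorMod η P
    set D' := CohB1.tensorMod η' P'
    have hD : PicF.IsInvertible D := Groth.L18.GenLoc.isInvertible_tensor hη hP
    have hD' : PicF.IsInvertible D' := Groth.L18.GenLoc.isInvertible_tensor hη' hP'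
    have eD : Nonempty (CohB1.tensorMod D' D ≅ Coh.structureModule X) :=
      ⟨Groth.L00.Tensor.tensorMiddleFour _ _ _ _ ≪≫ tensorIso e'
        (Groth.L29.DC.PullTensor.pullTensor f _ _ ≪≫ (Scheme.Modules.pullback f).mapIso eQ ≪≫
          Groth.L29.LocFree.pullbackUnitIso f) ≪≫ tensorUnitLeft _⟩
    -- downstairs
    have hh0 : (Module.finrank k (Coh.HH X (CohB1.tensorMod W D) 0) : ℤ) = Curv2.euler k B E + (r : ℤ) * n := by
      rw [← finrank_HH_of_iso (tensorAssoc W η P) 0, h0_twist k hdB f _ hQ]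
      have hb := Groth.L22.CurveDeg.deg_tensor_locFree (k := k) hdB.le hr
        (Groth.L12.FinCov.isFinLocFreeOfRank_one_of_isInvertible hQ)
      rw [hdQ, Curv2.deg, Curv2.deg] at hb
      have hbe := Groth.L21.RR.euler_eq k hdB.le (CohB1.tensorMod E Q)
      haveI := hN₂ Q hQ (by rw [hdQ]; exact hn2)
      have h1 : h k 1 (CohB1.tensorMod E Q) = 0 := Module.finrank_zero_of_subsingleton
      show (h k 0 (CohB1.tensorMod E Q) : ℤ) = _
      push_cast at hb
      rw [h1] at hbe
      push_cast at hbe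
      linarith
    have hh2 : Module.finrank k (Coh.HH X (CohB1.tensorMod W D) 2) = 0 := by
      rw [hflip D' D hD' eD 2 le_rfl, h0_twist k hdB f _ hQ']
      haveI := hN₀ Q' hQ' (by rw [hdQ']; exact hn0)
      exact Module.finrank_zero_of_subsingleton
    have hh1 : (Module.finrank k (Coh.HH X (CohB1.tensorMod W D) 1) : ℤ) = (r₀ : ℤ) * n - Curv2.euler k B G := by
      rw [hflip D' D hD' eD 1 one_le_two, h1_eq k hdB f hD']
      obtain ⟨e₀⟩ := nonempty_push_twist k hdB f η' hQ'
      obtain ⟨e₁⟩ := Groth.L17.ProjFormula.nonempty_Rpush_iso f Q' η'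
        (Groth.L16.Existence.isFinLocFree_of_isInvertible hQ') 1
      rw [← finrank_HH_of_iso e₀ 1,
        ← finrank_HH_of_iso (tensorComm _ _ ≪≫ e₁ ≪≫ (Coh.Rpush f 1).mapIso (tensorComm _ _)) 0]
      haveI := hN₁ Q' hQ' (by rw [hdQ']; exact hn1)
      haveI := hN₀ Q' hQ' (by rw [hdQ']; exact hn0)
      have hz : Module.finrank k (Coh.HH B (CohB1.tensorMod ((Coh.Rpush f 1).obj η') Q') 0) = 0 :=
        Module.finrank_zero_of_subsingleton
      have hb := Groth.L22.CurveDeg.deg_tensor_locFree (k := k) hdB.le hG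
        (Groth.L12.FinCov.isFinLocFreeOfRank_one_of_isInvertible hQ')
      rw [hdQ', Curv2.deg, Curv2.deg] at hb
      have hbe := Groth.L21.RR.euler_eq k hdB.le (CohB1.tensorMod G Q')
      have h0 : h k 0 (CohB1.tensorMod G Q') = 0 := Module.finrank_zero_of_subsingleton
      rw [h0] at hbe
      show ((h k 1 (CohB1.tensorMod G Q') + Module.finrank k _ : ℕ) : ℤ) = _
      rw [hz]
      push_cast at hb hbe ⊢
      linarith
    -- upstairs
    have hχ : (Curv2.euler k X (CohB1.tensorMod W D) : ℚ) =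
        Curv2.euler k X (Coh.structureModule X) + (n : ℚ) * ((g : ℚ) - 1) := by
      have hWD := Groth.L18.GenLoc.isInvertible_tensor hWi hD
      have hiiP : ∀ {Z : X.Modules}, PicF.IsInvertible Z →
          ii k P Z = -(n : ℚ) * ii k (ClSub.idealMod (f.fiberι p).ker) Z := fun {Z} hZ => by
        rw [Groth.L03.SurfFib.ii_pullback_base (k := k) hd2 hdB f hp hQ hZ, hdQ, ii_congr k α Z]
        push_cast
        ring
      have hiiD : ∀ {Z : X.Modules}, PicF.IsInvertible Z →
          ii k D Z = -(n : ℚ) * ii k (ClSub.idealMod (f.fiberι p).ker) Z := fun {Z} hZ => by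
        rw [ii_tensor k hd2.le hη hP hZ, hnum Z hZ, hiiP hZ, zero_add]
      have h1 := hRR _ hWD
      rw [ii_tensor k hd2.le hWi hD hWD, ii_tensor k hd2.le hWi hD hWi, ii_tensor_right k hd2.le hWi hWi hD,
        ii_tensor_right k hd2.le hD hWi hD, ii_comm k W D, hiiD hWi, hiiD hD,
        ii_comm k (ClSub.idealMod (f.fiberι p).ker) D, hiiD hIF, hII, hIW] at h1
      linarith
    have hχ' : Curv2.euler k X (CohB1.tensorMod W D) =
        Curv2.euler k X (Coh.structureModule X) + (n : ℤ) * ((g : ℤ) - 1) := by exact_mod_cast hχ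
    rw [euler_three k hd2, hh0, hh1, hh2] at hχ'
    push_cast at hχ'
    linarith
  set n := (max (max N₂ (-N₀)) (-N₁)).toNat + 1 with hn
  have hge : (max (max N₂ (-N₀)) (-N₁)) < (n : ℤ) := by rw [hn]; push_cast; omega
  have k1 := key n (by omega) (by omega) (by omega)
  have k2 := key (n + 1) (by push_cast; omega) (by push_cast; omega) (by push_cast; omega)
  push_cast at k2
  have hrz : (r : ℤ) = (g : ℤ) - 1 + r₀ := by linarith
  refine ⟨r, hr, hrz, ?_⟩
  rw [hrz] at k1
  linarith

end Groth.L03.SurfLeray
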