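import Groth.Agent.L21.Bundle.Twist
import Groth.Agent.L21.Bundle.DualityApps
import Groth.Agent.L21.Bundle.Sections
import Groth.Agent.L22.CurveDeg.NonSpecial

/-!
# Vanishing for large twists of vector bundles on a curve
-/

set_option autoImplicit false
set_option backward.isDefEq.respectTransparency false
set_option linter.style.haveILetI false
universe u

open CategoryTheory CategoryTheory.Limits AlgebraicGeometry

noncomputable section

namespace Groth.L03.SurfLeray

open Groth.L21.Bundle

variable (k : Type u) [Field k] [IsAlgClosed k] {C : Scheme.{u}} [C.Over (Spec (CommRingCat.of k))]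
  [IsProper (C ↘ Spec (CommRingCat.of k))] [Smooth (C ↘ Spec (CommRingCat.of k))] [IsIntegral C]
  (hd : topologicalKrullDim C = 1)

attribute [local irreducible] dg rk

include hd in
/-- A slope bound for the subsheaves of a bundle. -/
theorem exists_bd {r : ℕ} {G : C.Modules} (hG : FlatMod.IsFinLocFreeOfRank r G) :
    ∃ N : ℤ, Bd k G N 1 := by
  haveI := Groth.L21.RR.isNoetherian_of_proper (X := C) k
  have hreg := Groth.L21.Smooth.regular_stalk (k := k) (C ↘ Spec (CommRingCat.of k))
  obtain ⟨N, hN⟩ := exists_dg_bound k hd.le (isCoh_of_rank hG)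
  refine ⟨max N 0, fun G' i hi hG' => ?_⟩
  haveI := hi
  rw [Nat.cast_one, mul_one]
  rcases Nat.eq_zero_or_pos (rk G') with h0 | h0
  · have hl := locFree_of_mono hreg hd.le i hG' hG
    rw [h0] at hl ⊢
    rw [(zero_facts k hd.le (isZero_of_rank_zero hl)).2]
    simp
  · calc dg k G' ≤ N := hN G' i hi hG'
      _ ≤ max N 0 := le_max_left _ _
      _ ≤ max N 0 * (rk G' : ℤ) := le_mul_of_one_le_right (le_max_right _ _) (by exact_mod_cast h0)

include hd in
/-- Very negative twists have no sections. -/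
theorem exists_h0_twist_zero {r : ℕ} {G : C.Modules} (hG : FlatMod.IsFinLocFreeOfRank r G) :
    ∃ N : ℤ, ∀ Q : C.Modules, PicF.IsInvertible Q → Curv2.deg k C Q 1 < N →
      Subsingleton (Coh.HH C (CohB1.tensorMod G Q) 0) := by
  haveI := Groth.L21.RR.isNoetherian_of_proper (X := C) k
  have hreg := Groth.L21.Smooth.regular_stalk (k := k) (C ↘ Spec (CommRingCat.of k))
  obtain ⟨N, hN⟩ := exists_bd k hd hG
  refine ⟨-N, fun Q hQ hlt => ?_⟩
  have hb := bd_twist k hd hQ hN
  have h := h0_eq_zero_of_bd_neg k hreg hd (locFree_twist hd hreg hQ hG) hb (by push_cast; linarith)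
  haveI := Groth.L21.RR.finite_HH' k (coh_twist hQ (isCoh_of_rank hG)) 0
  exact Module.finrank_zero_iff.1 h

include hd in
/-- Very positive twists have no `H¹`. -/
theorem exists_h1_twist_zero {r : ℕ} {G : C.Modules} (hG : FlatMod.IsFinLocFreeOfRank r G) :
    ∃ N : ℤ, ∀ Q : C.Modules, PicF.IsInvertible Q → N < Curv2.deg k C Q 1 →
      Subsingleton (Coh.HH C (CohB1.tensorMod G Q) 1) := by
  haveI := Groth.L21.RR.isNoetherian_of_proper (X := C) k
  have hreg := Groth.L21.Smooth.regular_stalk (k := k) (C ↘ Spec (CommRingCat.of k))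
  obtain ⟨N, hN⟩ := exists_bd k hd hG
  refine ⟨max (|N| * r + |(2 * (Curv2.genus k C : ℤ) - 2)| + |dg k G|) 0, fun Q hQ hlt => ?_⟩
  refine subsingleton_h1_of_sub_bound k hd (Groth.L22.CurveDeg.h0_structure_eq_one k)
    (locFree_twist hd hreg hQ hG) fun K i hi hK hr => ?_
  haveI := hi
  have h1 := (bd_twist k hd hQ hN) K i hi hK
  rw [Nat.cast_one, mul_one, one_mul] at h1
  rw [dg_twist k hd hQ (isCoh_of_rank hG), rk_eq hG]
  have hr' : ((rk K : ℤ)) = (r : ℤ) - 1 := by
    have : ((rk K + 1 : ℕ) : ℤ) = (r : ℤ) := by exact_mod_cast hr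
    push_cast at this; linarith
  rw [hr'] at h1
  have h2 : N * ((r : ℤ) - 1) ≤ |N| * r := by
    calc N * ((r : ℤ) - 1) ≤ |N| * ((r : ℤ) - 1) :=
          mul_le_mul_of_nonneg_right (le_abs_self N) (by rw [← hr']; positivity)
      _ ≤ |N| * r := mul_le_mul_of_nonneg_left (by omega) (abs_nonneg N)
  have h3 := le_abs_self (2 * (Curv2.genus k C : ℤ) - 2)
  have h4 := neg_abs_le (dg k G)
  have h5 := (max_lt_iff.1 hlt).1
  nlinarith

end Groth.L03.SurfLeray
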