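import Groth.Agent.L03.SurfLeray.FibreConst
import Groth.Agent.L03.SurfLeray.CurveTwist

/-!
# Twists by fibres
-/

set_option autoImplicit false
set_option backward.isDefEq.respectTransparency false
set_option linter.style.haveILetI false
set_option linter.unusedSectionVars false
set_option maxHeartbeats 800000
universe u

open CategoryTheory CategoryTheory.Limits AlgebraicGeometry TopologicalSpace
open Groth.L22 Groth.L22.Inter Groth.L22.Nef Groth.L22.Big Groth.L03.Euler Groth.L03.SurfNum Groth.L03.SurfAdj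
open Groth.L00.Tensor (tensorIso tensorComm tensorUnitLeft tensorUnitRight tensorAssoc)
open Groth.L21.RR (h)

noncomputable section

namespace Groth.L03.SurfLeray

variable (k : Type u) [Field k] [IsAlgClosed k] {X : Scheme.{u}} [X.Over (Spec (CommRingCat.of k))]
  [IsProper (X ↘ Spec (CommRingCat.of k))] [IsIntegral X] [Smooth (X ↘ Spec (CommRingCat.of k))]
  {B : Scheme.{u}} [B.Over (Spec (CommRingCat.of k))] [IsProper (B ↘ Spec (CommRingCat.of k))]
  [Smooth (B ↘ Spec (CommRingCat.of k))] [IsIntegral B] (hdB : topologicalKrullDim B = 1)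
  (f : X ⟶ B) [f.IsOver (Spec (CommRingCat.of k))] [Surjective f]

include hdB in
/-- A line bundle of degree one, inverse to the ideal of a closed point. -/
theorem exists_point_inverse {p : B} (hp : IsClosed ({p} : Set B)) :
    ∃ A : B.Modules, PicF.IsInvertible A ∧ Curv2.deg k B A 1 = 1 ∧
      Nonempty (CohB1.tensorMod (ClSub.idealMod (B.fromSpecResidueField p).ker) A ≅ Coh.structureModule B) := by
  haveI := Groth.L21.RR.isNoetherian_of_proper (X := B) k
  haveI : IsClosedImmersion (B.fromSpecResidueField p) := isClosed_singleton_iff_isClosedImmersion.mp hp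
  obtain ⟨hIi, hdeg⟩ := Groth.L03.SurfFib.deg_point (k := k) hdB hp
  obtain ⟨A, hA, ⟨eA⟩⟩ := Groth.L08.Cube.exists_inverse hIi
  refine ⟨A, hA, ?_, ⟨eA⟩⟩
  have h1 := Groth.L21.Duality.deg_tensor (k := k) hdB hIi hA
  rw [Curv2.deg, euler_iso eA, hdeg, Nat.cast_one, one_mul, sub_self] at h1
  linarith

include k hdB in
/-- The powers of the ideal of a fibre come from the base. -/
theorem nonempty_ideal_pow {p : B} (hp : IsClosed ({p} : Set B)) (n : ℕ) :
    Nonempty ((Scheme.Modules.pullback f).obj
        (CohB1.tensorPow (ClSub.idealMod (B.fromSpecResidueField p).ker) n) ≅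
      ClSub.idealMod ((f.fiberι p).ker ^ n)) := by
  obtain ⟨hIF, hIp, -, ⟨α⟩⟩ := Groth.L03.SurfNum.fibre_ideal k hdB f hp
  have hFe := (Groth.Agent.L19.IdealInvertible.isEffCartier_iff _).1 hIF
  haveI := Groth.L21.RR.isNoetherian_of_proper (X := X) k
  induction n with
  | zero =>
    obtain ⟨u⟩ := Groth.L03.BlowPt.nonempty_idealMod_one (X := X)
    rw [pow_zero]
    exact ⟨Groth.L29.LocFree.pullbackUnitIso f ≪≫ u.symm⟩
  | succ n ih =>
    obtain ⟨e⟩ := ih
    have hn : BlowUp.IsEffCartierIdeal ((f.fiberι p).ker ^ n) := by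
      simpa using Groth.L03.BlowPt.isEffCartier_prod (Finset.range n) (D := fun _ => (f.fiberι p).ker) fun _ _ => hFe
    obtain ⟨m⟩ := Groth.L03.BlowPt.nonempty_idealMod_mul hn hFe
    rw [pow_succ]
    exact ⟨(Groth.L29.DC.PullTensor.pullTensor f _ _).symm ≪≫ tensorIso e α ≪≫ m.symm⟩

include k hdB in
/-- The direct image of a pullback from the base, twisted. -/
theorem nonempty_push_twist (G : X.Modules) {Q : B.Modules} (hQ : PicF.IsInvertible Q) :
    Nonempty (CohB1.tensorMod ((Scheme.Modules.pushforward f).obj G) Q ≅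
      (Scheme.Modules.pushforward f).obj (CohB1.tensorMod G ((Scheme.Modules.pullback f).obj Q))) := by
  haveI := Groth.L17.ProjFormula.isIso_θ f Q G (Groth.L16.Existence.isFinLocFree_of_isInvertible hQ)
  exact ⟨tensorComm _ _ ≪≫ asIso (Groth.L17.ClosedPush.θ f G Q) ≪≫
    (Scheme.Modules.pushforward f).mapIso (tensorComm _ _)⟩

include hdB in
/-- Sections of a twist are sections downstairs. -/
theorem h0_twist (G : X.Modules) {Q : B.Modules} (hQ : PicF.IsInvertible Q) :
    Module.finrank k (Coh.HH X (CohB1.tensorMod G ((Scheme.Modules.pullback f).obj Q)) 0) =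
      Module.finrank k (Coh.HH B (CohB1.tensorMod ((Scheme.Modules.pushforward f).obj G) Q) 0) := by
  obtain ⟨e⟩ := nonempty_push_twist k hdB f G hQ
  obtain ⟨q⟩ := Groth.L03.SurfFib.RelCanRank.nonempty_h0_push k f
    (CohB1.tensorMod G ((Scheme.Modules.pullback f).obj Q))
  rw [finrank_HH_of_iso e 0, q.finrank_eq]

include hdB in
/-- Sections of a module pulled back from the base. -/
theorem h0_pullback (hconn : IsIso (ClSub.unitToPush f)) {Q : B.Modules} (hQ : PicF.IsInvertible Q) :
    Module.finrank k (Coh.HH X ((Scheme.Modules.pullback f).obj Q) 0) = Module.finrank k (Coh.HH B Q 0) := by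
  haveI := hconn
  rw [← finrank_HH_of_iso (tensorUnitLeft ((Scheme.Modules.pullback f).obj Q)) 0, h0_twist k hdB f _ hQ,
    finrank_HH_of_iso (tensorIso (asIso (ClSub.unitToPush f)).symm (Iso.refl Q) ≪≫ tensorUnitLeft Q) 0]

end Groth.L03.SurfLeray
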