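import Groth.Agent.L03.SurfLeray.TorsionLift
import Groth.Agent.L03.SurfFib.RelCanRank
import Groth.Agent.L03.SurfFib.FibreTriv
import Groth.Agent.L03.BlowPt.OffExc
import Groth.Agent.L21.NormRed.Nodal
import Groth.Agent.L18.AmplePull

/-!
# Sections of torsion line bundles on the fibres of a semistable fibration
-/

set_option autoImplicit false
set_option backward.isDefEq.respectTransparency false
set_option linter.style.haveILetI false
set_option linter.unusedSectionVars false
set_option maxHeartbeats 800000
universe u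

open CategoryTheory CategoryTheory.Limits AlgebraicGeometry TopologicalSpace
open Groth.L22 Groth.L22.Inter Groth.L22.Nef Groth.L22.Big Groth.L03.Euler Groth.L03.SurfNum Groth.L03.SurfAdj
open Groth.L00.Tensor (tensorIso tensorComm tensorUnitLeft tensorUnitRight tensorAssoc)
open Groth.L16.CohLinear (hmap overLin delta exact_hmap_hmap exact_hmap_delta exact_delta_hmap)
open Groth.L21.RR (h e0 twι twπ shortExact_tw)

noncomputable section

namespace Groth.L03.SurfLeray

variable (k : Type u) [Field k] [IsAlgClosed k] {X : Scheme.{u}} [X.Over (Spec (CommRingCat.of k))]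
  [IsProper (X ↘ Spec (CommRingCat.of k))] [IsIntegral X] [Smooth (X ↘ Spec (CommRingCat.of k))]
  {B : Scheme.{u}} [B.Over (Spec (CommRingCat.of k))] [IsProper (B ↘ Spec (CommRingCat.of k))]
  [Smooth (B ↘ Spec (CommRingCat.of k))] [IsIntegral B]
  (f : X ⟶ B) [f.IsOver (Spec (CommRingCat.of k))] [Surjective f]
  (hconn : IsIso (ClSub.unitToPush f)) (hss : Curv2.IsNodalFamily f)

include k hconn hss

/-- Closed fibres of a semistable fibration are reduced and connected. -/
theorem fibre_facts {q : B} (hq : IsClosed ({q} : Set B)) :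
    AlgebraicGeometry.IsReduced (f.fiber q) ∧ ConnectedSpace (f.fiber q) := by
  haveI := Groth.L21.RR.isNoetherian_of_proper (X := X) k
  haveI := Groth.L21.RR.isNoetherian_of_proper (X := B) k
  haveI : IsProper (f ≫ (B ↘ Spec (CommRingCat.of k))) := by rw [comp_over]; infer_instance
  haveI : IsProper f := IsProper.of_comp f (B ↘ Spec (CommRingCat.of k))
  refine ⟨?_, ?_⟩
  · letI : Algebra k (B.residueField q) := Curv2.resAlgebra k B q
    haveI : Module.Finite k (B.residueField q) := Groth.L21.Disc.finite_residueField_of_isClosed k hq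
    haveI : IsAlgClosed (B.residueField q) :=
      IsAlgClosed.of_ringEquiv k _ (RingEquiv.ofBijective (algebraMap k (B.residueField q))
        IsAlgClosed.algebraMap_bijective_of_isIntegral)
    letI : (f.fiber q).Over (Spec (B.residueField q)) := ⟨f.fiberToSpecResidueField q⟩
    haveI : IsProper ((f.fiber q) ↘ Spec (CommRingCat.of (B.residueField q))) :=
      inferInstanceAs (IsProper (pullback.snd f (B.fromSpecResidueField q)))
    obtain ⟨hdim, hnod⟩ := hss.2.2 q
    exact Groth.L21.NormRed.isReduced_of_atWorstNodal (B.residueField q) hdim hnod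
  · haveI := Groth.L16.Connected.geometricallyConnected f (Groth.L03.SurfFib.Zariski.isIso_app f hconn)
    infer_instance

/-- The constants are the only functions on a closed fibre. -/
theorem fiberRank_structure {q : B} (hq : IsClosed ({q} : Set B)) :
    CohIII.fiberRank f (Coh.structureModule X) 0 q = 1 := by
  haveI : IsClosedImmersion (B.fromSpecResidueField q) := isClosed_singleton_iff_isClosedImmersion.mp hq
  haveI : IsClosedImmersion (f.fiberι q) :=
    inferInstanceAs (IsClosedImmersion (pullback.fst f (B.fromSpecResidueField q)))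
  letI oF : (f.fiber q).Over (Spec (CommRingCat.of k)) := ⟨f.fiberι q ≫ (X ↘ Spec (CommRingCat.of k))⟩
  haveI : IsProper ((f.fiber q) ↘ Spec (CommRingCat.of k)) :=
    inferInstanceAs (IsProper (f.fiberι q ≫ (X ↘ Spec (CommRingCat.of k))))
  obtain ⟨_, _⟩ := fibre_facts k f hconn hss hq
  obtain ⟨ep⟩ := Groth.L03.SurfFib.PushTensor.nonempty_push_iso_quot (f.fiberι q)
  obtain ⟨g⟩ := Groth.L14.LocHilbLift.nonempty_HH_pushEquiv (k := k) (f.fiberι q) rfl
    (Coh.structureModule (f.fiber q)) 0
  rw [Groth.L03.SurfFib.Zariski.fiberRank_eq k f hq (Groth.L18.Ample.isInvertible_structureModule X) 0,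
    ((hhEquiv k (tensorUnitLeft _ ≪≫ ep.symm) 0).trans g).finrank_eq]
  exact Groth.L03.ConnH0.h0_structure_eq_one k

variable {η : X.Modules} (hη : PicF.IsInvertible η) {l : ℕ} (hl : 0 < l)
  (σ : CohB1.tensorPow η l ≅ Coh.structureModule X)

include hη hl σ

/-- A torsion bundle with a section on a closed fibre is trivial there. -/
theorem trivial_of_fiberRank {q : B} (hq : IsClosed ({q} : Set B))
    (hr : CohIII.fiberRank f η 0 q ≠ 0) :
    Nonempty ((Scheme.Modules.pullback (f.fiberι q)).obj η ≅ Coh.structureModule (f.fiber q)) := by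
  haveI : IsClosedImmersion (B.fromSpecResidueField q) := isClosed_singleton_iff_isClosedImmersion.mp hq
  haveI : IsClosedImmersion (f.fiberι q) :=
    inferInstanceAs (IsClosedImmersion (pullback.fst f (B.fromSpecResidueField q)))
  letI oF : (f.fiber q).Over (Spec (CommRingCat.of k)) := ⟨f.fiberι q ≫ (X ↘ Spec (CommRingCat.of k))⟩
  haveI : IsProper ((f.fiber q) ↘ Spec (CommRingCat.of k)) :=
    inferInstanceAs (IsProper (f.fiberι q ≫ (X ↘ Spec (CommRingCat.of k))))
  obtain ⟨_, _⟩ := fibre_facts k f hconn hss hq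
  obtain ⟨ep⟩ := Groth.L03.SurfFib.PushTensor.nonempty_push_iso_quot (f.fiberι q)
  obtain ⟨g⟩ := Groth.L14.LocHilbLift.nonempty_HH_pushEquiv (k := k) (f.fiberι q) rfl
    ((Scheme.Modules.pullback (f.fiberι q)).obj η) 0
  let e : CohB1.tensorMod η (ClSub.quotMod (f.fiberι q).ker) ≅
      (Scheme.Modules.pushforward (f.fiberι q)).obj ((Scheme.Modules.pullback (f.fiberι q)).obj η) :=
    tensorIso (Iso.refl η) ep.symm ≪≫ Groth.L03.SurfFib.PushTensor.tensorPushIso (f.fiberι q) η
  rw [Groth.L03.SurfFib.Zariski.fiberRank_eq k f hq hη 0, ((hhEquiv k e 0).trans g).finrank_eq] at hr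
  refine iso_of_section ((Groth.L18.Ample.pullPow (f.fiberι q) η l).symm ≪≫
    (Scheme.Modules.pullback (f.fiberι q)).mapIso σ ≪≫ Groth.L29.LocFree.pullbackUnitIso _)
    (Groth.L18.Ample.isInvertible_pullback _ hη) hl k ?_
  by_contra hn
  haveI := not_nontrivial_iff_subsingleton.1 hn
  exact hr Module.finrank_zero_of_subsingleton

end Groth.L03.SurfLeray
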