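import Groth.Agent.L03.SurfLeray.EulerTwist

/-!
# Twists of the relative canonical module
-/

set_option autoImplicit false
set_option backward.isDefEq.respectTransparency false
set_option linter.style.haveILetI false
set_option linter.unusedSectionVars false
set_option maxHeartbeats 1000000
universe u

open CategoryTheory CategoryTheory.Limits AlgebraicGeometry TopologicalSpace
open Groth.L22 Groth.L22.Inter Groth.L22.Nef Groth.L22.Big Groth.L03.Euler Groth.L03.SurfNum Groth.L03.SurfAdj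
open Groth.L00.Tensor (tensorIso tensorComm tensorUnitLeft tensorUnitRight tensorAssoc)
open Groth.L21.RR (h)

noncomputable section

namespace Groth.L03.SurfLeray

variable (k : Type u) [Field k] [IsAlgClosed k] {X : Scheme.{u}} [X.Over (Spec (CommRingCat.of k))]
  [IsProper (X ↘ Spec (CommRingCat.of k))] [IsIntegral X] [Smooth (X ↘ Spec (CommRingCat.of k))]
  (hd : topologicalKrullDim X = 2)
  {B : Scheme.{u}} [B.Over (Spec (CommRingCat.of k))] [IsProper (B ↘ Spec (CommRingCat.of k))]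
  [Smooth (B ↘ Spec (CommRingCat.of k))] [IsIntegral B] (hdB : topologicalKrullDim B = 1)
  (f : X ⟶ B) [f.IsOver (Spec (CommRingCat.of k))] [Surjective f]
  (hconn : IsIso (ClSub.unitToPush f))
  {p : B} (hp : IsClosed ({p} : Set B))
  {g : ℕ} (hg : Curv2.euler k X (ClSub.quotMod (f.fiberι p).ker) = 1 - (g : ℤ))
  {W : X.Modules} (hW : ExtPow.IsExtPow 2 (Omega.sheaf (X ↘ Spec (CommRingCat.of k))) W)

include hd in
omit [IsAlgClosed k] in
theorem ii_torsion {η : X.Modules} (hη : PicF.IsInvertible η) {l : ℕ} (hl : 0 < l)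
    (σ : CohB1.tensorPow η l ≅ Coh.structureModule X) {Z : X.Modules} (hZ : PicF.IsInvertible Z) :
    ii k η Z = 0 := by
  have hd2 : topologicalKrullDim X = (2 : ℕ) := hd.trans Nat.cast_ofNat.symm
  have hO := Groth.L18.Ample.isInvertible_structureModule X
  have h2 := ii_tensor k hd2.le hO hO hZ
  rw [ii_congr k (tensorUnitLeft (Coh.structureModule X)) Z] at h2
  have h1 := ii_pow k hd2.le hη hZ l
  rw [ii_congr k σ Z, show ii k (Coh.structureModule X) Z = 0 by linarith] at h1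
  exact ((mul_eq_zero.1 h1.symm).resolve_left (by exact_mod_cast hl.ne'))

include hd hdB hconn hp hg hW

/-- The first cohomology on a fibre of a numerically trivial bundle. -/
theorem fiberRank_one {η : X.Modules} (hη : PicF.IsInvertible η)
    (hnum : ∀ Z : X.Modules, PicF.IsInvertible Z → ii k η Z = 0) {q : B} (hq : IsClosed ({q} : Set B)) :
    (CohIII.fiberRank f η 1 q : ℤ) = (CohIII.fiberRank f η 0 q : ℤ) + (g : ℤ) - 1 := by
  have hd2 : topologicalKrullDim X = (2 : ℕ) := hd.trans Nat.cast_ofNat.symm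
  haveI := Groth.L21.RR.isNoetherian_of_proper (X := X) k
  have hreg := reg_of_smooth k (X := X)
  obtain ⟨hIq, -, -, -⟩ := Groth.L03.SurfNum.fibre_ideal k hdB f hq
  obtain ⟨hIp, -, -, -⟩ := Groth.L03.SurfNum.fibre_ideal k hdB f hp
  obtain ⟨hWi, -, -, -⟩ := canonical k hd hreg hW
  have h1 := adj_num k hd hreg hW _ hIq
  have h2 := adj_num k hd hreg hW _ hIp
  have hqq := (Groth.L03.SurfFib.FibreH1.ii_fibre_eq k hd hdB f hq hp hIq).trans
    ((ii_comm k (ClSub.idealMod (f.fiberι p).ker) (ClSub.idealMod (f.fiberι q).ker)).trans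
      (Groth.L03.SurfFib.FibreH1.ii_fibre_eq k hd hdB f hq hp hIp))
  rw [Groth.L03.SurfFib.FibreH1.ii_fibre_eq k hd hdB f hq hp hWi, hqq, ← h2, hg] at h1
  have h3 : Curv2.euler k X (ClSub.quotMod (f.fiberι q).ker) = 1 - (g : ℤ) := by
    have : (Curv2.euler k X (ClSub.quotMod (f.fiberι q).ker) : ℚ) = ((1 - (g : ℤ) : ℤ) : ℚ) := by linarith
    exact_mod_cast this
  have h4 := Groth.L03.BlowPt.Rational.euler_twist k hd2 hreg
    ((Groth.Agent.L19.IdealInvertible.isEffCartier_iff _).1 hIq) hη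
  have h5 := Groth.L03.BlowPt.degOn_cast k hIq hη
  rw [ii_comm, hnum _ hIq, neg_zero] at h5
  have h6 : Groth.L03.BlowPt.degOn k (f.fiberι q).ker η = 0 := by exact_mod_cast h5
  rw [h3, h6, ← Groth.L03.SurfFib.Zariski.fiberRank_eq k f hq hη 0,
    ← Groth.L03.SurfFib.Zariski.fiberRank_eq k f hq hη 1] at h4
  linarith

/-- The direct image of a twist of the relative canonical module. -/
theorem euler_relCanonical [HasInjectiveResolutions X.Modules]
    {M : X.Modules} (hM : ClSub.IsInverseOf M ((Scheme.Modules.pullback f).obj (Omega.sheaf (B ↘ Spec (CommRingCat.of k)))))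
    {η η' : X.Modules} (hη : PicF.IsInvertible η) (hη' : PicF.IsInvertible η')
    (e' : CohB1.tensorMod η' η ≅ Coh.structureModule X)
    (hnum : ∀ Z : X.Modules, PicF.IsInvertible Z → ii k η Z = 0)
    {r₀ r₁ : ℕ} (hG : FlatMod.IsFinLocFreeOfRank r₀ ((Scheme.Modules.pushforward f).obj η'))
    (hR : FlatMod.IsFinLocFreeOfRank r₁ ((Coh.Rpush f 1).obj η')) :
    ∃ r, FlatMod.IsFinLocFreeOfRank r ((Coh.push f).obj (CohB1.tensorMod (CohB1.tensorMod W M) η)) ∧
      (r : ℤ) = (g : ℤ) - 1 + r₀ ∧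
      Curv2.euler k B ((Coh.push f).obj (CohB1.tensorMod (CohB1.tensorMod W M) η)) =
        Curv2.euler k X (Coh.structureModule X) - Curv2.euler k B ((Scheme.Modules.pushforward f).obj η') +
          2 * (r : ℤ) * Curv2.euler k B (Coh.structureModule B) := by
  haveI := Groth.L21.RR.isNoetherian_of_proper (X := X) k
  haveI := Groth.L21.RR.isNoetherian_of_proper (X := B) k
  obtain ⟨r, hr, hrz, hχ⟩ := euler_push_twist k hd hdB f hconn hp hg hW hη hη' e' hnum hG hR
  have hΩ := Groth.L21.Duality.isInvertible_omega (k := k) (X := B) hdB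
  obtain ⟨Ω', hΩ', ⟨e⟩⟩ := Groth.L08.Cube.exists_inverse hΩ
  obtain ⟨eM⟩ := hM
  let P := (Scheme.Modules.pullback f).obj (Omega.sheaf (B ↘ Spec (CommRingCat.of k)))
  let eP : CohB1.tensorMod P ((Scheme.Modules.pullback f).obj Ω') ≅ Coh.structureModule X :=
    Groth.L29.DC.PullTensor.pullTensor f _ Ω' ≪≫ (Scheme.Modules.pullback f).mapIso e ≪≫
      Groth.L29.LocFree.pullbackUnitIso f
  let eM' : M ≅ (Scheme.Modules.pullback f).obj Ω' :=
    (Groth.L00.Tensor.tensorUnitRight M).symm ≪≫ tensorIso (Iso.refl M) eP.symm ≪≫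
      (tensorAssoc M P _).symm ≪≫ tensorIso eM (Iso.refl _) ≪≫ tensorUnitLeft _
  obtain ⟨θ⟩ := nonempty_push_twist k hdB f (CohB1.tensorMod W η) hΩ'
  let eF : CohB1.tensorMod ((Scheme.Modules.pushforward f).obj (CohB1.tensorMod W η)) Ω' ≅
      (Coh.push f).obj (CohB1.tensorMod (CohB1.tensorMod W M) η) :=
    θ ≪≫ (Scheme.Modules.pushforward f).mapIso (tensorIso (Iso.refl _) eM'.symm ≪≫ tensorAssoc W η M ≪≫
      tensorIso (Iso.refl W) (tensorComm η M) ≪≫ (tensorAssoc W M η).symm)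
  refine ⟨r, (fun y => ?_), hrz, ?_⟩
  · obtain ⟨U, hyU, ⟨eU⟩⟩ := Groth.L21.Bundle.locFree_twist hdB (reg_of_smooth k) hΩ' hr y
    exact ⟨U, hyU, ⟨(Scheme.Modules.restrictFunctor U.ι).mapIso eF.symm ≪≫ eU⟩⟩
  rw [← euler_iso eF]
  have hb := Groth.L22.CurveDeg.deg_tensor_locFree (k := k) hdB.le hr
    (Groth.L12.FinCov.isFinLocFreeOfRank_one_of_isInvertible hΩ')
  have h0 := Groth.L22.CurveDeg.h0_structure_eq_one (X := B) k
  rw [Groth.L21.Bundle.deg_inverse k hdB hΩ hΩ' e, (Groth.L21.Duality.omega_invariants (k := k) hdB).2.2 h0,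
    Curv2.deg, Curv2.deg] at hb
  have hc := Groth.L21.Bundle.euler_structure k hdB h0
  rw [hc] at hb
  rw [hc, ← hχ]
  push_cast at hb
  linarith

end Groth.L03.SurfLeray
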