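import Groth.Agent.L11.AffInvBun.Coord
import Groth.Agent.L21.RR.PicFieldExt
import Groth.Agent.L21.RR.RingSections
import Groth.Agent.L03.ConnH0
import Mathlib.Dynamics.Newton

/-!
# Torsion line bundles: sections are frames, and triviality passes to thickenings
-/

set_option autoImplicit false
set_option backward.isDefEq.respectTransparency false
set_option linter.style.haveILetI false
universe u

open CategoryTheory CategoryTheory.Limits AlgebraicGeometry TopologicalSpace Opposite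
open Groth.L18.Frame (rs ro rs_rs rs_self rs_smul ro_ro ro_self IsFrame pull pull_rs pull_smul exists_frame)
open Groth.L11.AffInv (powSec powSec_rs powSec_smul isFrame_powSec)

noncomputable section

namespace Groth.L03.SurfLeray

variable {X : Scheme.{u}} {L : X.Modules} {l : ℕ} (σ : CohB1.tensorPow L l ≅ Coh.structureModule X)

/-- The value of the trivialised power on a section. -/
def val {U : X.Opens} (s : Γ(L, U)) : Γ(X, U) := σ.hom.app U (powSec L s l)

theorem val_rs {U V : X.Opens} (h : V ≤ U) (s : Γ(L, U)) : val σ (rs L h s) = ro h (val σ s) := by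
  unfold val
  rw [← powSec_rs]
  exact congr($(σ.hom.mapPresheaf.naturality (homOfLE h).op) (powSec L s l))

theorem val_smul {U : X.Opens} (a : Γ(X, U)) (s : Γ(L, U)) : val σ (a • s) = a ^ l * val σ s := by
  unfold val
  rw [powSec_smul]
  exact σ.hom.app_smul (a ^ l) (powSec L s l)

theorem isUnit_val {U : X.Opens} {s : Γ(L, U)} (hs : IsFrame L U s) : IsUnit (val σ s) := by
  obtain ⟨b, hb⟩ := (isFrame_powSec L hs l U le_rfl).2 (σ.inv.app U (1 : Γ(X, U)))
  have h := congrArg (σ.hom.app U) hb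
  simp only [rs_self] at h
  have e1 : σ.hom.app U (σ.inv.app U (1 : Γ(X, U))) = (1 : Γ(X, U)) :=
    congr($(σ.inv_hom_id).app U (1 : Γ(X, U)))
  rw [e1] at h
  exact IsUnit.of_mul_eq_one b ((mul_comm _ _).trans
    ((σ.hom.app_smul b (powSec L s l)).symm.trans h))

variable (hL : PicF.IsInvertible L)

include hL σ in
/-- On a connected reduced proper scheme, a torsion line bundle with a section is trivial. -/
theorem iso_of_section (hl : 0 < l) (k : Type u) [Field k] [IsAlgClosed k] [X.Over (Spec (CommRingCat.of k))]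
    [IsProper (X ↘ Spec (CommRingCat.of k))] [IsReduced X] [ConnectedSpace X]
    (hn : Nontrivial (Coh.HH X L 0)) : Nonempty (L ≅ Coh.structureModule X) := by
  classical
  obtain ⟨x, hx⟩ := exists_ne (0 : Coh.HH X L 0)
  let s := Groth.L21.RR.e0 L x
  have hs : s ≠ 0 := fun h => hx ((Groth.L21.RR.e0 L).map_eq_zero_iff.1 h)
  choose U t hxU ht using fun x => exists_frame hL x
  choose a ha using fun x => (ht x).exists_coeff le_rfl (rs L le_top s)
  have hval : ∀ x, ro le_top (val σ s) = a x ^ l * val σ (t x) := fun x => by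
    rw [← val_rs, ← ha x, rs_self, val_smul]
  suffices hu : ∀ x, IsUnit (a x) by
    have hf : IsFrame L ⊤ s := IsFrame.of_cover U (fun _ => le_top)
      (fun x _ => Opens.mem_iSup.2 ⟨x, hxU x⟩) fun x => by
        rw [← ha x, rs_self]; exact (ht x).smul_unit (hu x)
    obtain ⟨e⟩ := Groth.L21.PicExt.nonempty_iso_of_isFrame_top hf
    exact ⟨e.symm⟩
  -- the global value is a constant
  have h1 : Module.finrank k (Coh.HH X (Coh.structureModule X) 0) = 1 := Groth.L03.ConnH0.h0_structure_eq_one k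
  let O1 : Coh.HH X (Coh.structureModule X) 0 :=
    (Groth.L21.RR.e0 (Coh.structureModule X)).symm (1 : Γ(X, ⊤))
  have hO1 : O1 ≠ 0 := fun h => by
    have h' := congrArg (Groth.L21.RR.e0 (Coh.structureModule X)) h
    rw [AddEquiv.apply_symm_apply, map_zero] at h'
    obtain ⟨y⟩ := (inferInstance : Nonempty X)
    exact one_ne_zero ((map_one (X.presheaf.germ ⊤ y trivial).hom).symm.trans
      ((congrArg (X.presheaf.germ ⊤ y trivial) (h' : (1 : Γ(X, ⊤)) = 0)).trans (map_zero _)))
  obtain ⟨c, hc⟩ := exists_smul_eq_of_finrank_eq_one h1 hO1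
    ((Groth.L21.RR.e0 (Coh.structureModule X)).symm (val σ s))
  have hc' := congrArg (Groth.L21.RR.e0 (Coh.structureModule X)) hc
  rw [AddEquiv.apply_symm_apply, Groth.L21.RR.Ring.e0_smul, AddEquiv.apply_symm_apply] at hc'
  have hc'' : val σ s = (show Γ(X, ⊤) from Coh.toGlobal (X ↘ Spec (CommRingCat.of k)) c) :=
    hc'.symm.trans (mul_one (show Γ(X, ⊤) from Coh.toGlobal (X ↘ Spec (CommRingCat.of k)) c))
  by_cases h0 : c = 0
  · refine absurd ?_ hs
    rw [h0, map_zero] at hc''
    refine TopCat.Sheaf.eq_of_locally_eq' (⟨L.presheaf, L.isSheaf⟩ : TopCat.Sheaf AddCommGrpCat X) U ⊤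
      (fun _ => homOfLE le_top) (fun x _ => Opens.mem_iSup.2 ⟨x, hxU x⟩) _ _ fun x => ?_
    show rs L le_top s = rs L le_top (0 : Γ(L, ⊤))
    have hv := hval x
    rw [hc''] at hv
    change ro le_top (0 : Γ(X, ⊤)) = _ at hv
    simp only [ro, map_zero] at hv
    have : a x ^ l = 0 := ((isUnit_val σ (ht x)).mul_left_eq_zero).1 hv.symm
    rw [← ha x, IsReduced.eq_zero (a x) ⟨l, this⟩, zero_smul]
    exact (map_zero (L.presheaf.map (homOfLE (le_top : U x ≤ ⊤)).op).hom).symm
  · intro x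
    have hu : IsUnit (ro le_top (val σ s) : Γ(X, U x)) := by
      rw [hc'']
      exact ((Ne.isUnit h0).map (Coh.toGlobal (X ↘ Spec (CommRingCat.of k)))).map _
    rw [hval x] at hu
    exact (isUnit_pow_iff hl.ne').1 (isUnit_of_mul_isUnit_left hu)

omit hL in
/-- The global frame of a trivialised module. -/
theorem exists_frame_of_iso {M : X.Modules} (e : M ≅ Coh.structureModule X) :
    ∃ s : Γ(M, ⊤), IsFrame M ⊤ s := by
  refine ⟨e.inv.app ⊤ (1 : Γ(X, ⊤)), fun V h => ?_⟩
  have key : (fun a : Γ(X, V) => a • rs M h (e.inv.app ⊤ (1 : Γ(X, ⊤)))) =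
      fun a : Γ(X, V) => e.inv.app V a := by
    funext a
    have h1 : rs M h (e.inv.app ⊤ (1 : Γ(X, ⊤))) = e.inv.app V (1 : Γ(X, V)) :=
      (congr($(e.inv.mapPresheaf.naturality (homOfLE h).op) (1 : Γ(X, ⊤)))).symm.trans
        (congrArg (e.inv.app V) (map_one (X.presheaf.map (homOfLE h).op).hom))
    rw [h1]
    exact ((congrArg (e.inv.app V) (show (a • (1 : Γ(X, V))) = a from mul_one _)).symm.trans
      (e.inv.app_smul a (1 : Γ(X, V)))).symm
  show Function.Bijective fun a : Γ(X, V) => a • rs M h _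
  rw [key]
  exact ConcreteCategory.bijective_of_isIso (e.inv.app V)

include hL σ in
/-- A torsion line bundle trivial on the reduction is trivial, if the torsion is invertible and the
functions on the reduction extend. -/
theorem iso_of_lift {Z : Scheme.{u}} (i : Z ⟶ X) [IsClosedImmersion i] [Surjective i] [IsReduced Z]
    (hl : 0 < l) (hlu : IsUnit (l : Γ(X, ⊤))) (hlift : ∀ a : Γ(Z, i ⁻¹ᵁ ⊤), ∃ c : Γ(X, ⊤), i.app ⊤ c = a)
    (e : (Scheme.Modules.pullback i).obj L ≅ Coh.structureModule Z) :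
    Nonempty (L ≅ Coh.structureModule X) := by
  classical
  obtain ⟨sb, hsb⟩ := exists_frame_of_iso e
  choose U t hxU hU ht using fun x => show ∃ (U : X.Opens) (t : Γ(L, U)), x ∈ U ∧ IsAffineOpen U ∧ IsFrame L U t by
    obtain ⟨W, t, hxW, ht⟩ := exists_frame hL x
    obtain ⟨U, hU, hxU, hUW⟩ := exists_isAffineOpen_mem_and_subset (x := x) (U := W) hxW
    exact ⟨U, rs L hUW t, hxU, hU, ht.mono hUW⟩
  choose ab hab using fun x => ((ht x).pullback i).exists_coeff le_rfl (rs _ (le_top : i ⁻¹ᵁ U x ≤ i ⁻¹ᵁ ⊤) sb)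
  have habu : ∀ x, IsUnit (ab x) := fun x => by
    refine Groth.L18.Frame.isUnit_of_isFrame (rs_self _ le_rfl (pull i L (U x) (t x)) ▸ (ht x).pullback i) ?_
    rw [hab x]
    exact hsb.mono le_top
  have hcov : (⊤ : X.Opens) ≤ iSup U := fun x _ => Opens.mem_iSup.2 ⟨x, hxU x⟩
  have hcov' : i ⁻¹ᵁ (⊤ : X.Opens) ≤ ⨆ x, i ⁻¹ᵁ U x := fun z _ => Opens.mem_iSup.2 ⟨i z, hxU (i z)⟩
  have napp : ∀ {V W : X.Opens} (h : W ≤ V) (r : Γ(X, V)), ro (i.preimage_mono h) (i.app V r) = i.app W (ro h r) :=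
    fun h r => (ConcreteCategory.congr_hom (i.naturality (homOfLE h).op) r).symm
  -- the normalising constant
  let cb : ∀ x, Γ(Z, i ⁻¹ᵁ U x) := fun x => ab x ^ l * i.app (U x) (val σ (t x))
  have hcomp : ∀ x y, ro (inf_le_left : i ⁻¹ᵁ U x ⊓ i ⁻¹ᵁ U y ≤ i ⁻¹ᵁ U x) (cb x) =
      ro (inf_le_right : i ⁻¹ᵁ U x ⊓ i ⁻¹ᵁ U y ≤ i ⁻¹ᵁ U y) (cb y) := by
    intro x y
    obtain ⟨r, hr⟩ := (ht x).exists_coeff (inf_le_left : U x ⊓ U y ≤ U x) (rs L inf_le_right (t y))
    have h1 : ro (i.preimage_mono (inf_le_left : U x ⊓ U y ≤ U x)) (ab x) =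
        ro (i.preimage_mono (inf_le_right : U x ⊓ U y ≤ U y)) (ab y) * i.app (U x ⊓ U y) r := by
      refine ((ht x).pullback i).inj (i.preimage_mono inf_le_left) ?_
      have hx := congrArg (rs _ (i.preimage_mono (inf_le_left : U x ⊓ U y ≤ U x))) (hab x)
      have hy := congrArg (rs _ (i.preimage_mono (inf_le_right : U x ⊓ U y ≤ U y))) (hab y)
      simp only [rs_smul, rs_rs] at hx hy
      rw [hx, mul_smul, pull_rs i L (inf_le_left : U x ⊓ U y ≤ U x), ← pull_smul, hr, ← pull_rs i L inf_le_right, hy]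
    have h2 : i.app (U x ⊓ U y) (val σ (rs L inf_le_right (t y))) =
        i.app (U x ⊓ U y) r ^ l * i.app (U x ⊓ U y) (val σ (rs L inf_le_left (t x))) := by
      rw [← hr, val_smul, map_mul, map_pow]
    have e1 : (i ⁻¹ᵁ U x ⊓ i ⁻¹ᵁ U y) = i ⁻¹ᵁ (U x ⊓ U y) := rfl
    show ro (i.preimage_mono inf_le_left) (cb x) = ro (i.preimage_mono inf_le_right) (cb y)
    simp only [cb, ro, map_mul, map_pow]
    change ro _ (ab x) ^ l * ro _ (i.app (U x) (val σ (t x))) = ro _ (ab y) ^ l * ro _ (i.app (U y) (val σ (t y)))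
    rw [napp (inf_le_left : U x ⊓ U y ≤ U x), napp (inf_le_right : U x ⊓ U y ≤ U y), ← val_rs, ← val_rs, h1, h2, mul_pow, mul_assoc]
  obtain ⟨cbar, hcbar, -⟩ := Z.sheaf.existsUnique_gluing' (fun x => i ⁻¹ᵁ U x) (i ⁻¹ᵁ ⊤)
    (fun _ => homOfLE le_top) hcov' cb hcomp
  change ∀ x, ro (le_top : i ⁻¹ᵁ U x ≤ i ⁻¹ᵁ ⊤) cbar = cb x at hcbar
  obtain ⟨c, hc⟩ := hlift cbar
  have hcx : ∀ x, i.app (U x) (ro le_top c) = cb x := fun x => by
    rw [← napp, hc]; exact hcbar x
  have hunit : ∀ {V : X.Opens} (r : Γ(X, V)), IsUnit (i.app V r) → IsUnit r := fun {V} r hr =>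
    RingedSpace.isUnit_of_isUnit_germ X.toRingedSpace V r fun z hz => by
      obtain ⟨z', rfl⟩ := i.surjective z
      refine isUnit_of_map_unit (i.stalkMap z').hom _ ?_
      rw [Scheme.Hom.germ_stalkMap_apply]
      exact hr.map (Z.presheaf.germ (i ⁻¹ᵁ V) z' hz).hom
  -- the local roots
  have hroot : ∀ x, ∃ a : Γ(X, U x), a ^ l * val σ (t x) = ro le_top c ∧ i.app (U x) a = ab x := by
    intro x
    obtain ⟨a₀, ha₀⟩ := i.app_surjective (U x) (hU x) (ab x)
    obtain ⟨w, hw⟩ := isUnit_val σ (ht x)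
    set d : Γ(X, U x) := ro le_top c * ((w⁻¹ : (Γ(X, U x))ˣ) : Γ(X, U x))
    set P : Polynomial Γ(X, U x) := Polynomial.X ^ l - Polynomial.C d with hP
    have hnil : ∀ {r : Γ(X, U x)}, i.app (U x) r = 0 → IsNilpotent r := fun {r} hr => by
      refine (Scheme.isNilpotent_iff_basicOpen_eq_bot_of_isCompact (hU x).isCompact r).2 (le_bot_iff.1 fun z hz => ?_)
      obtain ⟨z', rfl⟩ := i.surjective z
      have h1 : z' ∈ i ⁻¹ᵁ X.basicOpen r := hz
      rw [Scheme.preimage_basicOpen, hr, Scheme.basicOpen_zero] at h1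
      exact h1
    have hz : i.app (U x) (a₀ ^ l - d) = 0 := by
      simp only [map_sub, map_pow, d, map_mul, ha₀, hcx x, cb, ← hw]
      simp only [mul_assoc, ← map_mul, Units.mul_inv, map_one, mul_one, sub_self]
    have ha₀u : IsUnit a₀ := hunit a₀ (ha₀ ▸ habu x)
    obtain ⟨a, ⟨han, har⟩, -⟩ := Polynomial.existsUnique_nilpotent_sub_and_aeval_eq_zero (P := P) (x := a₀)
      (by simpa [hP] using hnil hz) (by
        have : IsUnit ((l : Γ(X, U x)) * a₀ ^ (l - 1)) :=
          ((map_natCast (X.presheaf.map (homOfLE (le_top : U x ≤ ⊤)).op).hom l) ▸ hlu.map _).mul (ha₀u.pow _)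
        simpa [hP, Polynomial.derivative_X_pow] using this)
    refine ⟨a, ?_, ?_⟩
    · have h' : a ^ l = d := sub_eq_zero.1 (by simpa [hP] using har)
      rw [h', ← hw]
      simp only [d, mul_assoc, Units.inv_mul, mul_one]
    · have h' : IsNilpotent (i.app (U x) (a₀ - a)) := han.map (i.app (U x)).hom
      rw [map_sub, ha₀] at h'
      exact (sub_eq_zero.1 (IsReduced.eq_zero _ h')).symm
  choose a ha hai using hroot
  have hau : ∀ x, IsUnit (a x) := fun x => hunit (a x) (hai x ▸ habu x)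
  -- uniqueness of roots
  have huniq : ∀ {V : X.Opens} (p q : Γ(X, V)), IsUnit q → p ^ l = q ^ l → i.app V p = i.app V q → p = q := by
    intro V p q hq hpq hi
    refine TopCat.Presheaf.section_ext X.sheaf V _ _ fun z hz => ?_
    show X.presheaf.germ V z hz p = X.presheaf.germ V z hz q
    obtain ⟨z', rfl⟩ := i.surjective z
    set g := X.presheaf.germ V (i z') hz
    have hm : g p - g q ∈ IsLocalRing.maximalIdeal (X.presheaf.stalk (i z')) := by
      rw [IsLocalRing.mem_maximalIdeal]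
      intro hu
      have hu' := hu.map (i.stalkMap z').hom
      rw [map_sub, Scheme.Hom.germ_stalkMap_apply, Scheme.Hom.germ_stalkMap_apply, hi, sub_self] at hu'
      exact not_isUnit_zero hu'
    have hsum : IsUnit (∑ j ∈ Finset.range l, g p ^ j * g q ^ (l - 1 - j)) := by
      rw [← IsLocalRing.residue_ne_zero_iff_isUnit]
      have hpq' : IsLocalRing.residue (X.presheaf.stalk (i z')) (g p) = IsLocalRing.residue _ (g q) := sub_eq_zero.1 (by
        rw [← map_sub, IsLocalRing.residue_eq_zero_iff]; exact hm)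
      rw [map_sum]
      simp only [map_mul, map_pow, hpq', ← pow_add]
      rw [Finset.sum_congr rfl (fun j hj => show IsLocalRing.residue _ (g q) ^ (j + (l - 1 - j)) =
          IsLocalRing.residue _ (g q) ^ (l - 1) by
        rw [Nat.add_sub_cancel' (by have := Finset.mem_range.1 hj; omega)]), Finset.sum_const, Finset.card_range,
        nsmul_eq_mul]
      refine mul_ne_zero ?_ (pow_ne_zero _ ((IsLocalRing.residue_ne_zero_iff_isUnit _).2 (hq.map g.hom)))
      rw [← map_natCast (IsLocalRing.residue (X.presheaf.stalk (i z')))]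
      refine (IsLocalRing.residue_ne_zero_iff_isUnit _).2 ?_
      have := hlu.map (X.presheaf.germ ⊤ (i z') trivial).hom
      rwa [map_natCast] at this
    have h0 := geom_sum₂_mul (g p) (g q) l
    rw [show g p ^ l - g q ^ l = 0 by rw [← map_pow, ← map_pow, hpq, sub_self]] at h0
    exact sub_eq_zero.1 (hsum.mul_right_eq_zero.1 h0)
  have hag : ∀ x y, rs L (inf_le_left : U x ⊓ U y ≤ U x) (a x • t x) =
      rs L (inf_le_right : U x ⊓ U y ≤ U y) (a y • t y) := by
    intro x y
    obtain ⟨r, hr⟩ := (ht x).exists_coeff (inf_le_left : U x ⊓ U y ≤ U x) (rs L inf_le_right (t y))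
    rw [rs_smul, rs_smul, ← hr, ← mul_smul]
    congr 1
    refine huniq _ _ ?_ ?_ ?_
    · have hry : IsFrame L (U x ⊓ U y) (r • rs L inf_le_left (t x)) := hr ▸ (ht y).mono inf_le_right
      exact ((hau y).map _).mul (Groth.L18.Frame.isUnit_of_isFrame ((ht x).mono inf_le_left) hry)
    · refine (isUnit_val σ ((ht x).mono (inf_le_left : U x ⊓ U y ≤ U x))).mul_left_inj.1 ?_
      have hx := congrArg (ro (inf_le_left : U x ⊓ U y ≤ U x)) (ha x)
      have hy := congrArg (ro (inf_le_right : U x ⊓ U y ≤ U y)) (ha y)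
      simp only [ro, map_mul, map_pow] at hx hy
      change ro _ (a x) ^ l * ro _ (val σ (t x)) = _ at hx
      change ro _ (a y) ^ l * ro _ (val σ (t y)) = _ at hy
      rw [← val_rs] at hx hy
      rw [← hr, val_smul] at hy
      rw [hx, mul_pow, mul_assoc, hy]
      exact (ro_ro _ _ c).trans (ro_ro _ _ c).symm
    · refine ((ht x).pullback i).inj (i.preimage_mono inf_le_left) ?_
      have hx := congrArg (rs _ (i.preimage_mono (inf_le_left : U x ⊓ U y ≤ U x))) (hab x)
      have hy := congrArg (rs _ (i.preimage_mono (inf_le_right : U x ⊓ U y ≤ U y))) (hab y)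
      simp only [rs_smul, rs_rs] at hx hy
      rw [map_mul, ← napp, ← napp, hai x, hai y, hx, mul_smul, pull_rs i L (inf_le_left : U x ⊓ U y ≤ U x), ← pull_smul, hr, ← pull_rs i L inf_le_right, hy]
  obtain ⟨s, hs, -⟩ := TopCat.Sheaf.existsUnique_gluing' (⟨L.presheaf, L.isSheaf⟩ : TopCat.Sheaf AddCommGrpCat X) U ⊤
    (fun _ => homOfLE le_top) hcov (fun x => a x • t x) hag
  have hf : IsFrame L ⊤ s := IsFrame.of_cover U (fun _ => le_top) hcov fun x => by
    rw [show rs L le_top s = a x • t x from hs x]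
    exact (ht x).smul_unit (hau x)
  obtain ⟨e'⟩ := Groth.L21.PicExt.nonempty_iso_of_isFrame_top hf
  exact ⟨e'.symm⟩

end Groth.L03.SurfLeray
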