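import Groth.Agent.L03.SurfLeray.Twists

/-!
# A torsion bundle nontrivial on one fibre has no sections on any fibre
-/

set_option autoImplicit false
set_option backward.isDefEq.respectTransparency false
set_option linter.style.haveILetI false
set_option linter.unusedSectionVars false
set_option maxHeartbeats 1600000
universe u

open CategoryTheory CategoryTheory.Limits AlgebraicGeometry TopologicalSpace
open Groth.L22 Groth.L22.Inter Groth.L22.Nef Groth.L22.Big Groth.L03.Euler Groth.L03.SurfNum Groth.L03.SurfAdj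
open Groth.L00.Tensor (tensorIso tensorComm tensorUnitLeft tensorUnitRight tensorAssoc)
open Groth.L16.CohLinear (hmap overLin delta exact_hmap_hmap exact_hmap_delta exact_delta_hmap)
open Groth.L21.RR (h e0 twι twπ shortExact_tw)

noncomputable section

namespace Groth.L03.SurfLeray

/-- Powers of inverse modules are inverse. -/
theorem nonempty_pow_inverse {X : Scheme.{u}} {I A : X.Modules}
    (e : CohB1.tensorMod I A ≅ Coh.structureModule X) : ∀ n : ℕ,
    Nonempty (CohB1.tensorMod (CohB1.tensorPow I n) (CohB1.tensorPow A n) ≅ Coh.structureModule X)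
  | 0 => ⟨tensorUnitLeft _⟩
  | n + 1 => by
    obtain ⟨e'⟩ := nonempty_pow_inverse e n
    exact ⟨Groth.L00.Tensor.tensorMiddleFour _ _ _ _ ≪≫ tensorIso e' e ≪≫ tensorUnitLeft _⟩

variable (k : Type u) [Field k] [IsAlgClosed k] {X : Scheme.{u}} [X.Over (Spec (CommRingCat.of k))]
  [IsProper (X ↘ Spec (CommRingCat.of k))] [IsIntegral X] [Smooth (X ↘ Spec (CommRingCat.of k))]
  (hd : topologicalKrullDim X = 2)
  {B : Scheme.{u}} [B.Over (Spec (CommRingCat.of k))] [IsProper (B ↘ Spec (CommRingCat.of k))]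
  [Smooth (B ↘ Spec (CommRingCat.of k))] [IsIntegral B] (hdB : topologicalKrullDim B = 1)
  (f : X ⟶ B) [f.IsOver (Spec (CommRingCat.of k))] [Surjective f]
  (hconn : IsIso (ClSub.unitToPush f)) (hss : Curv2.IsNodalFamily f)
  {η : X.Modules} (hη : PicF.IsInvertible η) {l : ℕ} (hl : 0 < l)
  (σ : CohB1.tensorPow η l ≅ Coh.structureModule X)
  {p₀ : B} (hp₀ : IsClosed ({p₀} : Set B))
  (hη₀ : ¬ Nonempty ((Scheme.Modules.pullback (f.fiberι p₀)).obj η ≅ Coh.structureModule (f.fiber p₀)))

include k hd hdB hconn hss hη hl σ hp₀ hη₀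

/-- The direct image of such a bundle vanishes. -/
theorem isZero_push : IsZero ((Scheme.Modules.pushforward f).obj η) := by
  haveI := Groth.L21.RR.isNoetherian_of_proper (X := X) k
  haveI := Groth.L21.RR.isNoetherian_of_proper (X := B) k
  haveI : IsProper (f ≫ (B ↘ Spec (CommRingCat.of k))) := by rw [comp_over]; infer_instance
  haveI : IsProper f := IsProper.of_comp f (B ↘ Spec (CommRingCat.of k))
  haveI := Groth.L03.SurfNum.flat_of_surjective k hdB f
  haveI := Groth.L17.PushQCoh.hasInjectiveResolutions X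
  haveI : Coh.IsQCoh η := Groth.L21.Extend.isQCoh_of_isInvertible hη
  obtain ⟨r, hr⟩ := Groth.L03.SurfFib.PushFree.exists_rank_push f
    (Groth.L03.SurfFib.Zariski.isIso_app f hconn) (reg_of_smooth k) hdB.le hη
  obtain ⟨U, hU, hUr⟩ := Groth.L03.SurfFib.PushFree.exists_open_fiberRank f hη hr
  let W : B.Opens := ⟨_, Groth.L17.BC.isOpen_fiberRank_lt f η
    (Groth.L18.LFP.isFP_of_isFinLocFree _ (Groth.L16.Existence.isFinLocFree_of_isInvertible hη))
    (Groth.Agent.Pic0.isFlatOver_of_isInvertible f hη) 0 1⟩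
  have hp₀W : p₀ ∈ W := by
    show CohIII.fiberRank f η 0 p₀ < 1
    rw [Nat.lt_one_iff]
    by_contra hne
    exact hη₀ (trivial_of_fiberRank k f hconn hss hη hl σ hp₀ hne)
  have h1 : genericPoint B ∈ U := (genericPoint_spec B).mem_open_set_iff U.2 |>.2 (by simpa using hU)
  have h2 : genericPoint B ∈ W := (genericPoint_spec B).mem_open_set_iff W.2 |>.2 ⟨p₀, trivial, hp₀W⟩
  have hr0 : r = 0 := by
    have e := hUr _ h1
    have : CohIII.fiberRank f η 0 (genericPoint B) < 1 := h2
    omega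
  exact Groth.L21.Bundle.isZero_of_rank_zero (hr0 ▸ hr)

/-- No fibre carries a section of such a bundle. -/
theorem fiberRank_torsion_zero (hlk : (l : k) ≠ 0) {q : B} (hq : IsClosed ({q} : Set B)) :
    CohIII.fiberRank f η 0 q = 0 := by
  classical
  by_contra hne
  have hd2 : topologicalKrullDim X = (2 : ℕ) := hd.trans Nat.cast_ofNat.symm
  have hreg := reg_of_smooth k (X := X)
  haveI := Groth.L21.RR.isNoetherian_of_proper (X := X) k
  haveI := Groth.L21.RR.isNoetherian_of_proper (X := B) k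
  have hz := isZero_push k hd hdB f hconn hss hη hl σ hp₀ hη₀
  obtain ⟨e⟩ := trivial_of_fiberRank k f hconn hss hη hl σ hq hne
  obtain ⟨hred, hcon⟩ := fibre_facts k f hconn hss hq
  haveI := hred
  haveI := hcon
  haveI : IsClosedImmersion (B.fromSpecResidueField q) := isClosed_singleton_iff_isClosedImmersion.mp hq
  haveI : IsClosedImmersion (f.fiberι q) :=
    inferInstanceAs (IsClosedImmersion (pullback.fst f (B.fromSpecResidueField q)))
  obtain ⟨hIF, hIq, hsupp, -⟩ := Groth.L03.SurfNum.fibre_ideal k hdB f hq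
  obtain ⟨A, hA, hdegA, ⟨eA⟩⟩ := exists_point_inverse k hdB hq
  set n := Module.finrank k (Coh.HH X η 1) + (Curv2.euler k B (Coh.structureModule B)).natAbs + 2 with hn
  -- the thickened fibre
  set K := (f.fiberι q).ker
  let ι := (K ^ n).subschemeι
  have hle : ι.ker ≤ (f.fiberι q).ker := by
    rw [Scheme.IdealSheafData.ker_subschemeι]
    obtain ⟨m, hm⟩ : ∃ m, n = m + 1 := ⟨_, hn⟩
    rw [hm, pow_succ]
    intro U
    rw [Scheme.IdealSheafData.ideal_mul]
    exact Ideal.mul_le_right
  let i : f.fiber q ⟶ (K ^ n).subscheme := IsClosedImmersion.lift ι (f.fiberι q) hle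
  have hi : i ≫ ι = f.fiberι q := IsClosedImmersion.lift_fac _ _ _
  haveI : IsClosedImmersion (i ≫ ι) := by rw [hi]; infer_instance
  haveI : IsClosedImmersion i := IsClosedImmersion.of_comp i ι
  haveI : Surjective i := ⟨fun z => by
    have hz' : ι z ∈ Set.range (f.fiberι q) := by
      have h1 : ι z ∈ ((K ^ n).support : Set X) := by
        rw [← Scheme.IdealSheafData.range_subschemeι]; exact ⟨z, rfl⟩
      rw [Scheme.IdealSheafData.support_pow _ n (by omega), hsupp] at h1
      rw [Scheme.Hom.range_fiberι]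
      exact h1
    obtain ⟨w, hw⟩ := hz'
    refine ⟨w, ι.isClosedEmbedding.injective ?_⟩
    rw [← Scheme.Hom.comp_apply, hi, hw]⟩
  letI oF : (f.fiber q).Over (Spec (CommRingCat.of k)) := ⟨f.fiberι q ≫ (X ↘ Spec (CommRingCat.of k))⟩
  haveI : IsProper ((f.fiber q) ↘ Spec (CommRingCat.of k)) :=
    inferInstanceAs (IsProper (f.fiberι q ≫ (X ↘ Spec (CommRingCat.of k))))
  have hlu : IsUnit (l : Γ((K ^ n).subscheme, ⊤)) := by
    have := (Ne.isUnit hlk).map (Coh.toGlobal (ι ≫ (X ↘ Spec (CommRingCat.of k))))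
    rwa [map_natCast] at this
  have hlift : ∀ a : Γ(f.fiber q, i ⁻¹ᵁ ⊤), ∃ c : Γ((K ^ n).subscheme, ⊤), i.app ⊤ c = a := by
    intro a
    have h1 : Module.finrank k (Coh.HH (f.fiber q) (Coh.structureModule (f.fiber q)) 0) = 1 :=
      Groth.L03.ConnH0.h0_structure_eq_one k
    let O1 : Coh.HH (f.fiber q) (Coh.structureModule (f.fiber q)) 0 :=
      (Groth.L21.RR.e0 (Coh.structureModule (f.fiber q))).symm (1 : Γ(f.fiber q, ⊤))
    have hO1 : O1 ≠ 0 := fun h => by
      have h' := congrArg (Groth.L21.RR.e0 (Coh.structureModule (f.fiber q))) h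
      rw [AddEquiv.apply_symm_apply, map_zero] at h'
      obtain ⟨y⟩ := (inferInstance : Nonempty (f.fiber q))
      exact one_ne_zero ((map_one ((f.fiber q).presheaf.germ ⊤ y trivial).hom).symm.trans
        ((congrArg ((f.fiber q).presheaf.germ ⊤ y trivial) (h' : (1 : Γ(f.fiber q, ⊤)) = 0)).trans (map_zero _)))
    obtain ⟨c, hc⟩ := exists_smul_eq_of_finrank_eq_one h1 hO1
      ((Groth.L21.RR.e0 (Coh.structureModule (f.fiber q))).symm (show Γ(f.fiber q, ⊤) from a))
    have hc' := congrArg (Groth.L21.RR.e0 (Coh.structureModule (f.fiber q))) hc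
    rw [AddEquiv.apply_symm_apply, Groth.L21.RR.Ring.e0_smul, AddEquiv.apply_symm_apply] at hc'
    refine ⟨Coh.toGlobal (ι ≫ (X ↘ Spec (CommRingCat.of k))) c, ?_⟩
    refine Eq.trans ?_ ((mul_one (show Γ(f.fiber q, ⊤) from
      Coh.toGlobal (f.fiber q ↘ Spec (CommRingCat.of k)) c)).symm.trans hc')
    show i.appTop ((ι ≫ (X ↘ Spec (CommRingCat.of k))).appTop _) =
      (f.fiberι q ≫ (X ↘ Spec (CommRingCat.of k))).appTop _
    rw [← hi, Category.assoc, Scheme.Hom.comp_appTop i]
    rfl
  obtain ⟨eι⟩ := iso_of_lift ((Groth.L18.Ample.pullPow ι η l).symm ≪≫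
      (Scheme.Modules.pullback ι).mapIso σ ≪≫ Groth.L29.LocFree.pullbackUnitIso _)
    (Groth.L18.Ample.isInvertible_pullback _ hη) i hl hlu hlift
    ((Scheme.Modules.pullbackComp i ι).app η ≪≫ (Scheme.Modules.pullbackCongr hi).app η ≪≫ e)
  obtain ⟨ep⟩ := Groth.L03.SurfFib.PushTensor.nonempty_push_iso_quot ι
  rw [show ι.ker = K ^ n from Scheme.IdealSheafData.ker_subschemeι _] at ep
  let eQ : CohB1.tensorMod η (ClSub.quotMod (K ^ n)) ≅ ClSub.quotMod (K ^ n) :=
    tensorIso (Iso.refl η) ep.symm ≪≫ Groth.L03.SurfFib.PushTensor.tensorPushIso ι η ≪≫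
      (Scheme.Modules.pushforward ι).mapIso eι ≪≫ ep
  -- the twist
  set Ip := ClSub.idealMod (B.fromSpecResidueField q).ker
  have hQ : PicF.IsInvertible (CohB1.tensorPow A n) := Groth.L18.Ample.isInvertible_tensorPow hA n
  set P := (Scheme.Modules.pullback f).obj (CohB1.tensorPow A n)
  have hP : PicF.IsInvertible P := Groth.L18.Ample.isInvertible_pullback f hQ
  obtain ⟨eI⟩ := nonempty_ideal_pow k hdB f hq n
  obtain ⟨eIA⟩ := nonempty_pow_inverse eA n
  let eU : CohB1.tensorMod P (ClSub.idealMod (K ^ n)) ≅ Coh.structureModule X :=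
    tensorIso (Iso.refl P) eI.symm ≪≫ tensorComm _ _ ≪≫ Groth.L29.DC.PullTensor.pullTensor f _ _ ≪≫
      (Scheme.Modules.pullback f).mapIso eIA ≪≫ Groth.L29.LocFree.pullbackUnitIso f
  have hN : PicF.IsInvertible (CohB1.tensorMod η P) := Groth.L18.GenLoc.isInvertible_tensor hη hP
  have hfin := fun (N : X.Modules) (hN : PicF.IsInvertible N) (j : ℕ) =>
    Groth.L16.ProperFinite.finite_HH k (Groth.L18.Ample.isCoh_of_isInvertible hN) j
  -- no sections upstairs
  have h00 : Module.finrank k (Coh.HH X (CohB1.tensorMod η P) 0) = 0 := by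
    rw [h0_twist k hdB f η hQ]
    have hz' : IsZero (CohB1.tensorMod ((Scheme.Modules.pushforward f).obj η) (CohB1.tensorPow A n)) :=
      (Groth.L00.Tensor.tensorRightF (CohB1.tensorPow A n)).map_isZero hz
    haveI := Groth.L03.Euler.subsingleton_HH_of_isZero hz' 0
    exact Module.finrank_zero_of_subsingleton
  -- so the sections on the thickening are bounded
  have hb1 : Module.finrank k (Coh.HH X (CohB1.tensorMod P (ClSub.quotMod (K ^ n))) 0) ≤
      Module.finrank k (Coh.HH X η 1) := by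
    haveI := hfin _ hN 0
    haveI := hfin _ (Groth.L18.GenLoc.isInvertible_tensor hN
      ((Groth.Agent.L19.IdealInvertible.isEffCartier_iff _).2 (show BlowUp.IsEffCartierIdeal (K ^ n) by
        simpa using Groth.L03.BlowPt.isEffCartier_prod (Finset.range n) (D := fun _ => K)
          fun _ _ => (Groth.Agent.L19.IdealInvertible.isEffCartier_iff _).1 hIF))) 1
    haveI := Groth.L03.BlowPt.Rational.finite_h k hd2 hreg hN (K ^ n) 0
    have hS := shortExact_tw (I := K ^ n) hN
    have hex : Function.Exact (overLin k (hmap (twπ (CohB1.tensorMod η P) (K ^ n)) 0))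
        (overLin k (delta hS 0)) := exact_hmap_delta hS 0
    have h2 : Module.finrank k (Coh.HH X (CohB1.tensorMod (CohB1.tensorMod η P) (ClSub.quotMod (K ^ n))) 0) ≤
        Module.finrank k (Coh.HH X (CohB1.tensorMod η P) 0) +
          Module.finrank k (Coh.HH X (CohB1.tensorMod (CohB1.tensorMod η P) (ClSub.idealMod (K ^ n))) 1) :=
      Groth.L03.SurfFib.RelCanRank.finrank_le_of_exact _ _ hex
    let eN : CohB1.tensorMod (CohB1.tensorMod η P) (ClSub.idealMod (K ^ n)) ≅ η :=
      tensorAssoc _ _ _ ≪≫ tensorIso (Iso.refl η) eU ≪≫ tensorUnitRight η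
    let eM : CohB1.tensorMod (CohB1.tensorMod η P) (ClSub.quotMod (K ^ n)) ≅
        CohB1.tensorMod P (ClSub.quotMod (K ^ n)) :=
      tensorIso (tensorComm _ _) (Iso.refl _) ≪≫ tensorAssoc _ _ _ ≪≫ tensorIso (Iso.refl P) eQ
    have e1 := finrank_HH_of_iso (k := k) eN 1
    have e2 := finrank_HH_of_iso (k := k) eM 0
    omega
  have hb2 : Module.finrank k (Coh.HH X P 0) ≤
      1 + Module.finrank k (Coh.HH X (CohB1.tensorMod P (ClSub.quotMod (K ^ n))) 0) := by
    haveI := hfin _ hP 0
    haveI := hfin _ (Groth.L18.Ample.isInvertible_structureModule X) 0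
    haveI : Module.Finite k (Coh.HH X (CohB1.tensorMod P (ClSub.idealMod (K ^ n))) 0) :=
      Module.Finite.equiv (hhEquiv k eU 0).symm
    haveI := Groth.L03.BlowPt.Rational.finite_h k hd2 hreg hP (K ^ n) 0
    have hS := shortExact_tw (I := K ^ n) hP
    have hex : Function.Exact (overLin k (hmap (twι P (K ^ n)) 0))
        (overLin k (hmap (twπ P (K ^ n)) 0)) := exact_hmap_hmap hS 0
    have h2 : Module.finrank k (Coh.HH X P 0) ≤
        Module.finrank k (Coh.HH X (CohB1.tensorMod P (ClSub.idealMod (K ^ n))) 0) +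
          Module.finrank k (Coh.HH X (CohB1.tensorMod P (ClSub.quotMod (K ^ n))) 0) :=
      Groth.L03.SurfFib.RelCanRank.finrank_le_of_exact _ _ hex
    have e1 := (finrank_HH_of_iso (k := k) eU 0).trans (Groth.L22.CurveDeg.h0_structure_eq_one k)
    omega
  have hb3 : (n : ℤ) + Curv2.euler k B (Coh.structureModule B) ≤ Module.finrank k (Coh.HH X P 0) := by
    rw [h0_pullback k hdB f hconn hQ]
    have h1 := Groth.L21.Duality.deg_tensorPow (k := k) hdB hA n
    rw [hdegA, Curv2.deg] at h1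
    have h2 := Groth.L21.RR.euler_eq k hdB.le (CohB1.tensorPow A n)
    show _ ≤ (h k 0 (CohB1.tensorPow A n) : ℤ)
    push_cast at h1
    omega
  omega

end Groth.L03.SurfLeray
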